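import Cfsg.Agent.Lib.SporStruct.OctadOrbits
import Cfsg.Agent.Lib.SporStruct.SextetOrbits
import Cfsg.Agent.Lib.SporStruct.TrioOrbits

/-!
Orbits of the stabiliser of an object of one family of `M24` on another family, from certificates.
-/

set_option autoImplicit false

namespace Cfsg.Agent.Lib.M24Classes.Cross

open Cfsg Cfsg.Agent.Lib.Golay Cfsg.Agent.Lib.SporStruct
open Masks PermCodes OrbitTree CodedOrbit FamilyCode
open scoped Pointwise

/-- The invariant of two families: sum of the squares of the intersections. -/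
def kappa2 (S T : Finset (Finset GolayPt)) : ℕ := ∑ t ∈ S, ∑ u ∈ T, (t ∩ u).card ^ 2

/-- The invariant computed from masks. -/
def kappaList (L M : List ℕ) : ℕ := (L.map fun a => (M.map fun b => pc24 (a &&& b) ^ 2).sum).sum

theorem kappa2_eq (S T : Finset (Finset GolayPt)) {L M : List ℕ}
    (hL : L.Perm (S.toList.map maskOfSet)) (hM : M.Perm (T.toList.map maskOfSet)) :
    kappa2 S T = kappaList L M := by
  rw [kappaList, (hL.map _).sum_eq, List.map_map, kappa2, ← Finset.sum_map_toList]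
  congr 1
  refine List.map_congr_left fun t _ => ?_
  rw [Function.comp_apply, (hM.map _).sum_eq, List.map_map, ← Finset.sum_map_toList]
  congr 1
  refine List.map_congr_left fun u _ => ?_
  rw [Function.comp_apply, card_inter_eq]

theorem perm_singleton (o : Finset GolayPt) :
    ([maskOfSet o] : List ℕ).Perm (({o} : Finset (Finset GolayPt)).toList.map maskOfSet) := by
  rw [Finset.toList_singleton]; exact List.Perm.refl _

theorem kappa2_smul {G : Type*} [Group G] [MulAction G GolayPt] (g : G)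
    (S T : Finset (Finset GolayPt)) : kappa2 (g • S) (g • T) = kappa2 S T := by
  have h : ∀ (R : Finset (Finset GolayPt)) (f : Finset GolayPt → ℕ),
      ∑ t ∈ g • R, f t = ∑ t ∈ R, f (g • t) := by
    intro R f
    rw [Finset.smul_finset_def, Finset.sum_image fun a _ b _ hab => MulAction.injective g hab]
  unfold kappa2
  rw [h]
  refine Finset.sum_congr rfl fun t _ => ?_
  rw [h]
  refine Finset.sum_congr rfl fun u _ => ?_
  rw [← Finset.smul_finset_inter, Finset.card_smul_finset]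

section General

variable {G X Y : Type*} [Group G] [MulAction G X] [MulAction G Y] {Ω : Set X} {E : X → ℕ}

/-- The data certifying the orbits of `H` on `Ω`. -/
structure Cert (H : Subgroup G) (Ω : Set X) (E : X → ℕ) (act : ℕ → ℕ → ℕ) (gens U : List ℕ)
    (kf : ℕ → ℕ) (classes : List (ℕ × ℕ × MTree)) : Prop where
  ok : classesOk act gens U kf classes = true
  smul_mem : ∀ g : G, ∀ x ∈ Ω, g • x ∈ Ω
  gen : ∀ c ∈ gens, ∃ g ∈ H, ∀ x ∈ Ω, E (g • x) = act c (E x)
  inj : Set.InjOn E Ω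
  nodup : U.Nodup
  univ : ∀ m, m ∈ U ↔ ∃ x ∈ Ω, E x = m
  inv : ∀ g ∈ H, ∀ x ∈ Ω, kf (E (g • x)) = kf (E x)

variable {H : Subgroup G} {act : ℕ → ℕ → ℕ} {gens U : List ℕ} {kf : ℕ → ℕ}
  {classes : List (ℕ × ℕ × MTree)}

theorem Cert.orbit_class (c : Cert H Ω E act gens U kf classes) {e : ℕ × ℕ × MTree}
    (he : e ∈ classes) {n : ℕ} (hn : e.2.2.keys.length = n) (h0 : n ≠ 0) :
    ∃ X₁ ∈ Ω, MulAction.orbit ↥H X₁ = {y | y ∈ Ω ∧ kf (E y) = e.1} ∧
      (MulAction.orbit ↥H X₁).ncard = n := by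
  have hnc : {y | y ∈ Ω ∧ kf (E y) = e.1}.ncard = n := by
    rw [← hn, ← class_count H c.ok (fun g _ x hx => c.smul_mem g x hx) c.gen c.nodup c.univ he,
      ← class_ncard c.inj c.nodup c.univ]
    congr 1
    ext y
    simp
  obtain ⟨x, hxΩ, hx⟩ : {y | y ∈ Ω ∧ kf (E y) = e.1}.Nonempty :=
    Set.nonempty_of_ncard_ne_zero (by rw [hnc]; exact h0)
  have heq : MulAction.orbit ↥H x = {y | y ∈ Ω ∧ kf (E y) = e.1} := by
    ext y
    constructor
    · rintro ⟨g, rfl⟩
      exact ⟨c.smul_mem (g : G) x hxΩ, (c.inv g g.2 x hxΩ).trans hx⟩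
    · rintro ⟨hy, hk⟩
      obtain ⟨g, hg, hgy⟩ := class_trans H c.ok (fun g _ x hx => c.smul_mem g x hx) c.gen c.inj c.nodup c.univ
        hxΩ hy (hx.trans hk.symm)
      exact ⟨⟨g, hg⟩, hgy⟩
  exact ⟨x, hxΩ, heq, by rw [heq, hnc]⟩

theorem Cert.value (c : Cert H Ω E act gens U kf classes) {y : X} (hy : y ∈ Ω) :
    ∃ e ∈ classes, kf (E y) = e.1 := by
  obtain ⟨e, he, hv, -⟩ := class_spec H c.ok (fun g _ x hx => c.smul_mem g x hx) c.gen c.nodup c.univ _
    ((c.univ _).2 ⟨y, hy, rfl⟩)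
  exact ⟨e, he, hv⟩

theorem orbit_transport {x₀ : Y} (a : G) (z : X) :
    MulAction.orbit ↥(MulAction.stabilizer G (a • x₀)) (a • z) =
      (fun w => a • w) '' MulAction.orbit ↥(MulAction.stabilizer G x₀) z := by
  ext w
  constructor
  · rintro ⟨⟨g, hg⟩, rfl⟩
    rw [MulAction.mem_stabilizer_iff] at hg
    refine ⟨(a⁻¹ * g * a) • z, ⟨⟨a⁻¹ * g * a, ?_⟩, rfl⟩, ?_⟩
    · rw [MulAction.mem_stabilizer_iff, mul_smul, mul_smul, hg, inv_smul_smul]
    · show a • (a⁻¹ * g * a) • z = g • a • z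
      rw [← mul_smul, ← mul_smul]; group
  · rintro ⟨_, ⟨⟨g, hg⟩, rfl⟩, rfl⟩
    rw [MulAction.mem_stabilizer_iff] at hg
    refine ⟨⟨a * g * a⁻¹, ?_⟩, ?_⟩
    · rw [MulAction.mem_stabilizer_iff, mul_smul, mul_smul, inv_smul_smul, hg]
    · show (a * g * a⁻¹) • a • z = a • g • z
      rw [← mul_smul, ← mul_smul]; group

theorem image_eq_self (hΩ : ∀ g : G, ∀ x ∈ Ω, g • x ∈ Ω) (a : G) : (fun w => a • w) '' Ω = Ω := by
  ext w
  exact ⟨fun ⟨v, hv, e⟩ => e ▸ hΩ a v hv, fun hw => ⟨a⁻¹ • w, hΩ _ w hw, smul_inv_smul a w⟩⟩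

/-- Three orbits. -/
theorem exists_three {x₀ x : Y} {a : G} (hax : a • x₀ = x)
    (c : Cert (MulAction.stabilizer G x₀) Ω E act gens U kf classes) {n₁ n₂ n₃ : ℕ}
    (hcl : classes.map (fun e => e.2.2.keys.length) = [n₁, n₂, n₃]) (h₁ : n₁ ≠ 0) (h₂ : n₂ ≠ 0)
    (h₃ : n₃ ≠ 0) :
    ∃ X₁ ∈ Ω, ∃ X₂ ∈ Ω, ∃ X₃ ∈ Ω,
      (MulAction.orbit ↥(MulAction.stabilizer G x) X₁).ncard = n₁ ∧
      (MulAction.orbit ↥(MulAction.stabilizer G x) X₂).ncard = n₂ ∧
      (MulAction.orbit ↥(MulAction.stabilizer G x) X₃).ncard = n₃ ∧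
      Ω = MulAction.orbit ↥(MulAction.stabilizer G x) X₁ ∪
        MulAction.orbit ↥(MulAction.stabilizer G x) X₂ ∪
        MulAction.orbit ↥(MulAction.stabilizer G x) X₃ := by
  subst hax
  match classes, hcl, c with
  | [e₁, e₂, e₃], hcl, c =>
    simp only [List.map_cons, List.map_nil, List.cons.injEq, and_true] at hcl
    obtain ⟨z₁, hz₁, o₁, k₁⟩ := c.orbit_class (e := e₁) (by simp) hcl.1 h₁
    obtain ⟨z₂, hz₂, o₂, k₂⟩ := c.orbit_class (e := e₂) (by simp) hcl.2.1 h₂
    obtain ⟨z₃, hz₃, o₃, k₃⟩ := c.orbit_class (e := e₃) (by simp) hcl.2.2 h₃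
    refine ⟨a • z₁, c.smul_mem a _ hz₁, a • z₂, c.smul_mem a _ hz₂, a • z₃, c.smul_mem a _ hz₃, ?_⟩
    simp only [orbit_transport, Set.ncard_image_of_injective _ (MulAction.injective a)]
    refine ⟨k₁, k₂, k₃, ?_⟩
    rw [← Set.image_union, ← Set.image_union]
    conv_lhs => rw [← image_eq_self c.smul_mem a]
    congr 1
    rw [o₁, o₂, o₃]
    ext y
    simp only [Set.mem_union, Set.mem_ofPred_eq]
    constructor
    · intro hy
      obtain ⟨e, he, hv⟩ := c.value hy
      simp only [List.mem_cons, List.not_mem_nil, or_false] at he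
      rcases he with rfl | rfl | rfl <;> tauto
    · tauto

/-- Four orbits. -/
theorem exists_four {x₀ x : Y} {a : G} (hax : a • x₀ = x)
    (c : Cert (MulAction.stabilizer G x₀) Ω E act gens U kf classes) {n₁ n₂ n₃ n₄ : ℕ}
    (hcl : classes.map (fun e => e.2.2.keys.length) = [n₁, n₂, n₃, n₄]) (h₁ : n₁ ≠ 0) (h₂ : n₂ ≠ 0)
    (h₃ : n₃ ≠ 0) (h₄ : n₄ ≠ 0) :
    ∃ X₁ ∈ Ω, ∃ X₂ ∈ Ω, ∃ X₃ ∈ Ω, ∃ X₄ ∈ Ω,
      (MulAction.orbit ↥(MulAction.stabilizer G x) X₁).ncard = n₁ ∧
      (MulAction.orbit ↥(MulAction.stabilizer G x) X₂).ncard = n₂ ∧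
      (MulAction.orbit ↥(MulAction.stabilizer G x) X₃).ncard = n₃ ∧
      (MulAction.orbit ↥(MulAction.stabilizer G x) X₄).ncard = n₄ ∧
      Ω = MulAction.orbit ↥(MulAction.stabilizer G x) X₁ ∪
        MulAction.orbit ↥(MulAction.stabilizer G x) X₂ ∪
        MulAction.orbit ↥(MulAction.stabilizer G x) X₃ ∪
        MulAction.orbit ↥(MulAction.stabilizer G x) X₄ := by
  subst hax
  match classes, hcl, c with
  | [e₁, e₂, e₃, e₄], hcl, c =>
    simp only [List.map_cons, List.map_nil, List.cons.injEq, and_true] at hcl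
    obtain ⟨z₁, hz₁, o₁, k₁⟩ := c.orbit_class (e := e₁) (by simp) hcl.1 h₁
    obtain ⟨z₂, hz₂, o₂, k₂⟩ := c.orbit_class (e := e₂) (by simp) hcl.2.1 h₂
    obtain ⟨z₃, hz₃, o₃, k₃⟩ := c.orbit_class (e := e₃) (by simp) hcl.2.2.1 h₃
    obtain ⟨z₄, hz₄, o₄, k₄⟩ := c.orbit_class (e := e₄) (by simp) hcl.2.2.2 h₄
    refine ⟨a • z₁, c.smul_mem a _ hz₁, a • z₂, c.smul_mem a _ hz₂, a • z₃, c.smul_mem a _ hz₃,
      a • z₄, c.smul_mem a _ hz₄, ?_⟩
    simp only [orbit_transport, Set.ncard_image_of_injective _ (MulAction.injective a)]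
    refine ⟨k₁, k₂, k₃, k₄, ?_⟩
    rw [← Set.image_union, ← Set.image_union, ← Set.image_union]
    conv_lhs => rw [← image_eq_self c.smul_mem a]
    congr 1
    rw [o₁, o₂, o₃, o₄]
    ext y
    simp only [Set.mem_union, Set.mem_ofPred_eq]
    constructor
    · intro hy
      obtain ⟨e, he, hv⟩ := c.value hy
      simp only [List.mem_cons, List.not_mem_nil, or_false] at he
      rcases he with rfl | rfl | rfl | rfl <;> tauto
    · tauto

end General

/-- The invariant relative to `L` on octad masks. -/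
def kfOct (L : List ℕ) (m : ℕ) : ℕ := kappaList L [m]

/-- The invariant relative to `L` on codes of families of `k` sets. -/
def kfFam (k : ℕ) (L : List ℕ) (x : ℕ) : ℕ := kappaList L (unpack k x)

/-- Generators of the stabiliser: members of `M24` fixing the object. -/
def gensOk (act : ℕ → ℕ → ℕ) (gens : List ℕ) (root : ℕ) : Bool :=
  gens.all fun c => isM24Code c && Nat.beq (act c root) root

variable {Z : Type*} [MulAction ↥M24 Z] {x₀ : Z} {fam : Z → Finset (Finset GolayPt)} {L : List ℕ}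
  {gens : List ℕ} {classes : List (ℕ × ℕ × MTree)}

/-- Certificate for octads. -/
theorem cert_octads (hfam : ∀ (g : ↥M24) z, fam (g • z) = g • fam z)
    (hL : L.Perm ((fam x₀).toList.map maskOfSet))
    (hfix : ∀ c ∈ gens, ∃ h : isM24Code c = true, elt c h • x₀ = x₀)
    (hok : classesOk imgMask gens OctadOrbits.univMasks (kfOct L) classes = true) :
    Cert (MulAction.stabilizer ↥M24 x₀) octads maskOfSet imgMask gens OctadOrbits.univMasks
      (kfOct L) classes where
  ok := hok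
  smul_mem := fun g _ hx => OctadOrbits.smul_mem g hx
  gen := fun c hc => by
    obtain ⟨h, hf⟩ := hfix c hc
    exact ⟨elt c h, MulAction.mem_stabilizer_iff.2 hf, fun x _ => OctadOrbits.code_elt h x⟩
  inj := maskOfSet_injective.injOn
  nodup := OctadOrbits.univ_nodup
  univ := OctadOrbits.mem_univMasks
  inv := fun g hg x _ => by
    rw [kfOct, kfOct, ← kappa2_eq _ _ hL (perm_singleton _), ← kappa2_eq _ _ hL (perm_singleton x),
      ← kappa2_smul g (fam x₀) {x}, ← hfam, MulAction.mem_stabilizer_iff.1 hg, Finset.smul_finset_singleton]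

/-- Certificate for trios. -/
theorem cert_trios (hfam : ∀ (g : ↥M24) z, fam (g • z) = g • fam z)
    (hL : L.Perm ((fam x₀).toList.map maskOfSet))
    (hfix : ∀ c ∈ gens, ∃ h : isM24Code c = true, elt c h • x₀ = x₀)
    (hok : classesOk (act 3) gens TrioOrbits.univCodes (kfFam 3 L) classes = true) :
    Cert (MulAction.stabilizer ↥M24 x₀) trios code (act 3) gens TrioOrbits.univCodes
      (kfFam 3 L) classes where
  ok := hok
  smul_mem := fun g _ hx => TrioOrbits.smul_mem g hx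
  gen := fun c hc => by
    obtain ⟨h, hf⟩ := hfix c hc
    exact ⟨elt c h, MulAction.mem_stabilizer_iff.2 hf, fun x hx => TrioOrbits.code_elt h hx⟩
  inj := TrioOrbits.code_injOn_set
  nodup := TrioOrbits.univ_nodup
  univ := TrioOrbits.mem_univCodes
  inv := fun g hg x hx => by
    rw [kfFam, kfFam, ← kappa2_eq _ _ hL (perm_unpack _ (TrioOrbits.smul_mem g hx).1),
      ← kappa2_eq _ _ hL (perm_unpack x hx.1),
      ← kappa2_smul g (fam x₀) x, ← hfam, MulAction.mem_stabilizer_iff.1 hg]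

/-- Certificate for sextets. -/
theorem cert_sextets (hfam : ∀ (g : ↥M24) z, fam (g • z) = g • fam z)
    (hL : L.Perm ((fam x₀).toList.map maskOfSet))
    (hfix : ∀ c ∈ gens, ∃ h : isM24Code c = true, elt c h • x₀ = x₀)
    (hok : classesOk (act 6) gens SextetOrbits.univCodes (kfFam 6 L) classes = true) :
    Cert (MulAction.stabilizer ↥M24 x₀) sextets code (act 6) gens SextetOrbits.univCodes
      (kfFam 6 L) classes where
  ok := hok
  smul_mem := fun g _ hx => SextetOrbits.smul_mem g hx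
  gen := fun c hc => by
    obtain ⟨h, hf⟩ := hfix c hc
    exact ⟨elt c h, MulAction.mem_stabilizer_iff.2 hf, fun x hx => SextetOrbits.code_elt h hx⟩
  inj := SextetOrbits.code_injOn_set
  nodup := SextetOrbits.univ_nodup
  univ := SextetOrbits.mem_univCodes
  inv := fun g hg x hx => by
    rw [kfFam, kfFam, ← kappa2_eq _ _ hL (perm_unpack _ (SextetOrbits.smul_mem g hx).1),
      ← kappa2_eq _ _ hL (perm_unpack x hx.1),
      ← kappa2_smul g (fam x₀) x, ← hfam, MulAction.mem_stabilizer_iff.1 hg]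

/-- The standard octad is fixed by its generators. -/
theorem octad_fix {gens : List ℕ} (h : gensOk imgMask gens OctadData.root = true) :
    ∀ c ∈ gens, ∃ h : isM24Code c = true, elt c h • OctadOrbits.std = OctadOrbits.std := by
  simp only [gensOk, List.all_eq_true, Bool.and_eq_true, Nat.beq_eq] at h
  intro c hc
  exact ⟨(h c hc).1, maskOfSet_injective (by rw [OctadOrbits.code_elt, OctadOrbits.maskOfSet_std, (h c hc).2])⟩

/-- The standard trio is fixed by its generators. -/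
theorem trio_fix {gens : List ℕ} (h : gensOk (act 3) gens TrioData.root = true) :
    ∀ c ∈ gens, ∃ h : isM24Code c = true, elt c h • TrioOrbits.std = TrioOrbits.std := by
  simp only [gensOk, List.all_eq_true, Bool.and_eq_true, Nat.beq_eq] at h
  intro c hc
  exact ⟨(h c hc).1, TrioOrbits.code_injOn_set (TrioOrbits.smul_mem _ TrioOrbits.std_mem) TrioOrbits.std_mem
    (by rw [TrioOrbits.code_elt _ TrioOrbits.std_mem, TrioOrbits.code_std, (h c hc).2])⟩

/-- The standard sextet is fixed by its generators. -/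
theorem sextet_fix {gens : List ℕ} (h : gensOk (act 6) gens SextetData.root = true) :
    ∀ c ∈ gens, ∃ h : isM24Code c = true, elt c h • SextetOrbits.std = SextetOrbits.std := by
  simp only [gensOk, List.all_eq_true, Bool.and_eq_true, Nat.beq_eq] at h
  intro c hc
  exact ⟨(h c hc).1, SextetOrbits.code_injOn_set (SextetOrbits.smul_mem _ SextetOrbits.std_mem) SextetOrbits.std_mem
    (by rw [SextetOrbits.code_elt _ SextetOrbits.std_mem, SextetOrbits.code_std, (h c hc).2])⟩

theorem perm_std_trio : (unpack 3 TrioData.root).Perm (TrioOrbits.std.toList.map maskOfSet) := by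
  rw [← TrioOrbits.code_std]; exact perm_unpack _ TrioOrbits.std_mem.1

theorem perm_std_sextet : (unpack 6 SextetData.root).Perm (SextetOrbits.std.toList.map maskOfSet) := by
  rw [← SextetOrbits.code_std]; exact perm_unpack _ SextetOrbits.std_mem.1

end Cfsg.Agent.Lib.M24Classes.Cross
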