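import Cfsg.Agent.Lib.SporStruct.OrbitTree

/-! Data for the fifteen trios through an octad. -/

set_option autoImplicit false
set_option maxRecDepth 100000

namespace Cfsg.Agent.Lib.M24Classes.Cross.Trio15Data

open Cfsg.Agent.Lib.SporStruct.OrbitTree

/-- The codes of the fifteen trios through the standard octad. -/
def thru : List ℕ := [1485923342496072480, 1485927478012461120, 1485937477769472000, 1485943658227042560, 1485957572846510400, 1485962242012553760, 1485974163767315040, 1485984342839199840, 1485987264490528800, 1486000720085394240, 1486006046918265600, 1486019657668815360, 1486021202783208000, 1486034126875902240, 1486041925462305120]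

/-- Their tree under the stabiliser of the octad. -/
noncomputable def tree15 : MTree :=
  (.node (.node (.node (.node .leaf 1485923342496072480 1485923342496072480 0 0 .leaf) 1485927478012461120 1485987264490528800 0 4 (.node .leaf 1485937477769472000 1486006046918265600 1 5 .leaf)) 1485943658227042560 1486041925462305120 0 3 (.node (.node .leaf 1485957572846510400 1485937477769472000 0 6 .leaf) 1485962242012553760 1486034126875902240 1 2 (.node .leaf 1485974163767315040 1486000720085394240 0 3 .leaf))) 1485984342839199840 1485923342496072480 0 1 (.node (.node (.node .leaf 1485987264490528800 1485962242012553760 1 3 .leaf) 1486000720085394240 1485984342839199840 0 2 (.node .leaf 1486006046918265600 1485943658227042560 0 4 .leaf)) 1486019657668815360 1486034126875902240 0 2 (.node (.node .leaf 1486021202783208000 1486000720085394240 1 3 .leaf) 1486034126875902240 1485923342496072480 1 1 (.node .leaf 1486041925462305120 1485984342839199840 1 2 .leaf))))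

/-- The first trio. -/
def root : ℕ := 1485923342496072480

/-- Elements fixing the octad and the first trio. -/
def gens14 : List ℕ := [672866778617753554286324851499109452, 564920494458022842256293650990599553]

/-- Another trio. -/
def root14 : ℕ := 1485927478012461120

/-- The tree of the other fourteen. -/
noncomputable def tree14 : MTree :=
  (.node (.node (.node (.node .leaf 1485927478012461120 1485927478012461120 0 0 .leaf) 1485937477769472000 1486006046918265600 0 2 (.node .leaf 1485943658227042560 1486006046918265600 1 2 .leaf)) 1485957572846510400 1486000720085394240 1 3 (.node (.node .leaf 1485962242012553760 1486034126875902240 0 5 .leaf) 1485974163767315040 1486041925462305120 0 3 (.node .leaf 1485984342839199840 1485937477769472000 0 3 .leaf))) 1485987264490528800 1485927478012461120 0 1 (.node (.node (.node .leaf 1486000720085394240 1485987264490528800 0 2 .leaf) 1486006046918265600 1485927478012461120 1 1 (.node .leaf 1486019657668815360 1485957572846510400 1 4 .leaf)) 1486021202783208000 1485943658227042560 1 3 (.node (.node .leaf 1486034126875902240 1485984342839199840 1 4 .leaf) 1486041925462305120 1485987264490528800 1 2 .leaf)))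

/-- The halves of the standard octad with the trios compatible with each. -/
def table : List (ℕ × ℕ) := [(15, 8512), (23, 52), (27, 2184), (29, 1537), (30, 20482), (135, 642), (139, 5152), (141, 18436), (142, 25), (147, 24577), (149, 4360), (150, 3136), (153, 82), (154, 772), (156, 8352), (1031, 6145), (1035, 16912), (1037, 42), (1038, 1156), (1043, 1282), (1045, 16576), (1046, 8712), (1049, 12292), (1050, 97), (1052, 2320), (1155, 76), (1157, 9232), (1158, 16672), (1161, 385), (1162, 10242), (1164, 4672), (1169, 2592), (1170, 4240), (1172, 7), (1176, 17416), (4103, 17416), (4107, 7), (4109, 4240), (4110, 2592), (4115, 4672), (4117, 10242), (4118, 385), (4121, 16672), (4122, 9232), (4124, 76), (4227, 2320), (4229, 97), (4230, 12292), (4233, 8712), (4234, 16576), (4236, 1282), (4241, 1156), (4242, 42), (4244, 16912), (4248, 6145), (5123, 8352), (5125, 772), (5126, 82), (5129, 3136), (5130, 4360), (5132, 24577), (5137, 25), (5138, 18436), (5140, 5152), (5144, 642), (5249, 20482), (5250, 1537), (5252, 2184), (5256, 52), (5264, 8512)]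

end Cfsg.Agent.Lib.M24Classes.Cross.Trio15Data
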